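import Mathlib.AlgebraicGeometry.Morphisms.Integral
import Mathlib.RingTheory.IntegralClosure.GoingDown
import Mathlib.AlgebraicGeometry.Morphisms.UniversallyClosed
import Groth.Prelude.Def_Pi1
import Groth.Agent.NeronHDLib.IntClosureNormal

/-!
# Going down for integral dominant morphisms of integral schemes with normal target
-/

universe u
open CategoryTheory AlgebraicGeometry Opposite Topology

namespace Groth.Agent.FinGD

theorem app_injective_of_denseRange {X Y : Scheme.{u}} [AlgebraicGeometry.IsReduced Y]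
    (f : X ⟶ Y) (hf : DenseRange f.base) (U : Y.Opens) : Function.Injective (f.app U).hom := by
  rw [injective_iff_map_eq_zero]
  intro s hs
  have h : f ⁻¹ᵁ Y.basicOpen s = ⊥ := by
    rw [Scheme.preimage_basicOpen, hs, Scheme.basicOpen_zero]
  refine (AlgebraicGeometry.basicOpen_eq_bot_iff s).mp ?_
  by_contra hne
  obtain ⟨y, hy⟩ := ((TopologicalSpace.Opens.ne_bot_iff_nonempty _).mp hne)
  obtain ⟨x, hx⟩ := hf.exists_mem_open (Y.basicOpen s).isOpen ⟨y, hy⟩
  have : x ∈ f ⁻¹ᵁ Y.basicOpen s := hx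
  rw [h] at this
  exact this

/-- A dominant integral morphism between integral schemes with normal target lifts generalisations. -/
theorem generalizingMap_of_isNormal {X Y : Scheme.{u}} [AlgebraicGeometry.IsIntegral X]
    [AlgebraicGeometry.IsIntegral Y] (hY : Pi1.IsNormalScheme Y) (f : X ⟶ Y) [IsIntegralHom f]
    (hf : DenseRange f.base) : GeneralizingMap f.base := by
  intro x y hy
  obtain ⟨U, hU, hxU, -⟩ := exists_isAffineOpen_mem_and_subset (X := Y) (x := f x) (U := ⊤) trivial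
  have hyU : y ∈ U := hy.mem_open U.isOpen hxU
  have hV : IsAffineOpen (f ⁻¹ᵁ U) := hU.preimage f
  haveI : Nonempty U := ⟨⟨f x, hxU⟩⟩
  haveI : Nonempty (f ⁻¹ᵁ U) := ⟨⟨x, hxU⟩⟩
  haveI : AlgebraicGeometry.IsIntegral U.toScheme := AlgebraicGeometry.isIntegral_of_isOpenImmersion U.ι
  haveI : IsIntegrallyClosed Γ(Y, U) := NeronHDLib.isIntegrallyClosed_sections hY U
  let φ : Γ(Y, U) →+* Γ(X, f ⁻¹ᵁ U) := (f.app U).hom
  algebraize [φ]
  haveI : FaithfulSMul Γ(Y, U) Γ(X, f ⁻¹ᵁ U) :=
    (faithfulSMul_iff_algebraMap_injective _ _).mpr (app_injective_of_denseRange f hf U)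
  haveI : Algebra.IsIntegral Γ(Y, U) Γ(X, f ⁻¹ᵁ U) :=
    ⟨IsIntegralHom.isIntegral_app (f := f) U hU⟩
  have hgd : GeneralizingMap (PrimeSpectrum.comap φ) :=
    Algebra.HasGoingDown.iff_generalizingMap_primeSpectrumComap.mp inferInstance
  have e := IsAffineOpen.SpecMap_appLE_fromSpec f hU hV le_rfl
  rw [← Scheme.Hom.app_eq_appLE] at e
  have ecomp : ∀ q, f (hV.fromSpec q) = hU.fromSpec (PrimeSpectrum.comap φ q) := by
    intro q
    have := congr(($e) q)
    simp only [Scheme.Hom.comp_apply] at this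
    rw [← this]
    rfl
  obtain ⟨q, rfl⟩ : x ∈ Set.range hV.fromSpec := by rw [hV.range_fromSpec]; exact hxU
  obtain ⟨r, rfl⟩ : y ∈ Set.range hU.fromSpec := by rw [hU.range_fromSpec]; exact hyU
  rw [ecomp] at hy
  have hr : r ⤳ PrimeSpectrum.comap φ q := hU.fromSpec.isOpenEmbedding.isInducing.specializes_iff.mp hy
  obtain ⟨q', hq', e'⟩ := hgd hr
  refine ⟨hV.fromSpec q', hq'.map hV.fromSpec.continuous, ?_⟩
  exact (ecomp q').trans (congrArg hU.fromSpec e')

end Groth.Agent.FinGD
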